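import Mathlib.LinearAlgebra.FiniteDimensional.Lemmas
import Mathlib.RingTheory.Nilpotent.Lemmas
import Mathlib.LinearAlgebra.Dimension.OrzechProperty

/-!
Chain bases of nilpotent endomorphisms and the ranks of their powers.
-/

set_option autoImplicit false

open Module

namespace CfsgLib.NilType

variable {F : Type*} [Field F] {V : Type*} [AddCommGroup V] [Module F V]

/-- `b` is a chain basis of `N` with chain lengths `k`. -/
def IsChain (N : End F V) {r : ℕ} (k : Fin r → ℕ) (b : Basis (Σ i, Fin (k i)) F V) : Prop :=
  ∀ x, N (b x) = if h : x.2.val + 1 < k x.1 then b ⟨x.1, ⟨x.2.val + 1, h⟩⟩ else 0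

theorem exists_chain [FiniteDimensional F V] (N : End F V) (hN : IsNilpotent N) :
    ∃ (r : ℕ) (k : Fin r → ℕ) (b : Basis (Σ i, Fin (k i)) F V), (∀ i, 0 < k i) ∧ IsChain N k b := by
  classical
  induction hd : finrank F V using Nat.strong_induction_on generalizing V with
  | _ d ih =>
    subst hd
    by_cases hV : finrank F V = 0
    · haveI : Subsingleton V := finrank_zero_iff.1 hV
      exact ⟨0, fun i => i.elim0, Basis.empty _, fun i => i.elim0, fun x => x.1.elim0⟩
    have hWlt : finrank F (LinearMap.range N) < finrank F V := by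
      refine Submodule.finrank_lt fun htop => hV ?_
      obtain ⟨m, hm⟩ := hN
      have hs : Function.Surjective (⇑(N ^ m)) := by
        rw [Module.End.coe_pow]; exact (LinearMap.range_eq_top.1 htop).iterate m
      rw [hm] at hs
      haveI : Subsingleton V := ⟨fun a b => by
        obtain ⟨a', rfl⟩ := hs a; obtain ⟨b', rfl⟩ := hs b; simp⟩
      exact finrank_zero_of_subsingleton
    let W := LinearMap.range N
    let NW : End F W := N.restrict fun x _ => LinearMap.mem_range_self N x
    have hNW : IsNilpotent NW := Module.End.isNilpotent.restrict _ hN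
    obtain ⟨r, k, c, hk, hc⟩ := ih _ hWlt NW hNW rfl
    have hpre : ∀ i, ∃ v, N v = (c ⟨i, ⟨0, hk i⟩⟩ : V) := fun i => LinearMap.mem_range.1 (c ⟨i, ⟨0, hk i⟩⟩).2
    choose v hv using hpre
    have hcN : ∀ x, N (c x : V) = if h : x.2.val + 1 < k x.1 then (c ⟨x.1, ⟨x.2.val + 1, h⟩⟩ : V) else 0 := fun x => by
      have := congrArg Subtype.val (hc x)
      rw [LinearMap.coe_restrict_apply] at this
      rw [this]
      split <;> rfl
    let last : Fin r → V := fun i => c ⟨i, ⟨k i - 1, by have := hk i; omega⟩⟩
    have hlast : ∀ i, last i ∈ LinearMap.ker N := fun i => by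
      rw [LinearMap.mem_ker, hcN, dif_neg]
      show ¬(k i - 1 + 1 < k i)
      omega
    let lastK : Fin r → LinearMap.ker N := fun i => ⟨last i, hlast i⟩
    have hli : LinearIndependent F lastK := by
      apply LinearIndependent.of_comp (LinearMap.ker N).subtype
      have h1 : LinearIndependent F fun x => (c x : V) :=
        c.linearIndependent.map' W.subtype (Submodule.ker_subtype _)
      exact h1.comp (fun i => (⟨i, ⟨k i - 1, by have := hk i; omega⟩⟩ : Σ i, Fin (k i)))
        fun i j h => congrArg Sigma.fst h
    let U := Submodule.span F (Set.range lastK)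
    obtain ⟨Z, hZ⟩ := U.exists_isCompl
    have hU : finrank F U = r := (finrank_span_eq_card hli).trans (Fintype.card_fin r)
    let z := Module.finBasis F Z
    let k' : Fin (r + finrank F Z) → ℕ := Fin.append (fun i => k i + 1) fun _ => 1
    let g : Fin (r + finrank F Z) → ℕ → V := Fin.append
      (fun i j => if j = 0 then v i else if h : j - 1 < k i then (c ⟨i, ⟨j - 1, h⟩⟩ : V) else 0)
      (fun i j => if j = 0 then ((z i : LinearMap.ker N) : V) else 0)
    let f : (Σ i, Fin (k' i)) → V := fun x => g x.1 x.2
    have hgk : ∀ i, g i (k' i) = 0 := fun i => by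
      induction i using Fin.addCases with
      | left i => simp [g, k']
      | right i => simp [g, k']
    have hgN : ∀ i j, j < k' i → N (g i j) = g i (j + 1) := fun i j hj => by
      induction i using Fin.addCases with
      | left i =>
        simp only [k', Fin.append_left] at hj
        simp only [g, Fin.append_left, Nat.add_one_ne_zero, if_false, Nat.add_sub_cancel]
        rcases Nat.eq_zero_or_pos j with rfl | hj0
        · rw [if_pos rfl, hv, dif_pos (hk i)]
        · rw [if_neg hj0.ne', dif_pos (show j - 1 < k i by omega), hcN]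
          simp only [show j - 1 + 1 = j by omega]
      | right i =>
        simp only [k', Fin.append_right] at hj
        obtain rfl : j = 0 := by omega
        simp [g]
    have hfN : ∀ x, N (f x) = if h : x.2.val + 1 < k' x.1 then f ⟨x.1, ⟨x.2.val + 1, h⟩⟩ else 0 := fun x => by
      show N (g x.1 x.2) = _
      rw [hgN _ _ x.2.isLt]
      by_cases h : x.2.val + 1 < k' x.1
      · rw [dif_pos h]
      · rw [dif_neg h, show x.2.val + 1 = k' x.1 by have := x.2.isLt; omega, hgk]
    have hgmem : ∀ i j, j < k' i → g i j ∈ Submodule.span F (Set.range f) := fun i j hj =>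
      Submodule.subset_span ⟨⟨i, ⟨j, hj⟩⟩, rfl⟩
    have hsp : ⊤ ≤ Submodule.span F (Set.range f) := by
      intro x _
      have hker : LinearMap.ker N ≤ Submodule.span F (Set.range f) := by
        intro y hy
        have hmem : (⟨y, hy⟩ : LinearMap.ker N) ∈ U ⊔ Z := by rw [hZ.sup_eq_top]; trivial
        obtain ⟨a, ha, b, hb, hab⟩ := Submodule.mem_sup.1 hmem
        rw [show y = (a : V) + (b : V) from (congrArg Subtype.val hab).symm]
        refine add_mem ?_ ?_
        · refine (Submodule.span_le (p := (Submodule.span F (Set.range f)).comap (LinearMap.ker N).subtype)).2 ?_ ha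
          rintro _ ⟨i, rfl⟩
          have h := hgmem (Fin.castAdd _ i) (k i) (by simp [k'])
          simp only [g, Fin.append_left, (hk i).ne', if_false] at h
          rw [dif_pos (show k i - 1 < k i by have := hk i; omega)] at h
          exact h
        · have e := z.sum_repr ⟨b, hb⟩
          rw [show (b : V) = ∑ i, (z.repr ⟨b, hb⟩ i) • ((z i : LinearMap.ker N) : V) by
            have e' := congrArg (fun w : Z => ((w : LinearMap.ker N) : V)) e
            simp only [Submodule.coe_sum, Submodule.coe_smul] at e'
            exact e'.symm]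
          refine sum_mem fun i _ => Submodule.smul_mem _ _ ?_
          have h := hgmem (Fin.natAdd r i) 0 (by simp [k'])
          simpa [g] using h
      let pre : (Σ i, Fin (k i)) → V := fun y => g (Fin.castAdd _ y.1) y.2
      have hpre : ∀ y, N (pre y) = (c y : V) := fun y => by
        show N (g _ _) = _
        rw [hgN _ _ (by simp only [k', Fin.append_left]; have := y.2.isLt; omega)]
        simp [g]
      let w : W := ⟨N x, LinearMap.mem_range_self N x⟩
      have hwx : N (∑ y, c.repr w y • pre y) = N x := by
        rw [map_sum]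
        simp only [map_smul, hpre]
        have e := congrArg Subtype.val (c.sum_repr w)
        simp only [Submodule.coe_sum, Submodule.coe_smul] at e
        exact e
      have h1 : x - ∑ y, c.repr w y • pre y ∈ LinearMap.ker N := by
        rw [LinearMap.mem_ker, map_sub, hwx, sub_self]
      rw [← sub_add_cancel x (∑ y, c.repr w y • pre y)]
      exact add_mem (hker h1) (sum_mem fun y _ =>
        Submodule.smul_mem _ _ (hgmem _ _ (by simp only [k', Fin.append_left]; have := y.2.isLt; omega)))
    have hcard : Fintype.card (Σ i, Fin (k' i)) = finrank F V := by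
      have h1 := LinearMap.finrank_range_add_finrank_ker N
      have h2 := Submodule.finrank_add_eq_of_isCompl hZ
      have h3 : finrank F (LinearMap.range N) = ∑ i, k i := by rw [finrank_eq_card_basis c]; simp
      have hker : finrank F (LinearMap.ker N) = r + finrank F Z := by rw [← h2, hU]
      simp only [Fintype.card_sigma, Fintype.card_fin, Fin.sum_univ_add, k', Fin.append_left, Fin.append_right,
        Finset.sum_add_distrib, Finset.sum_const, Finset.card_univ, smul_eq_mul, mul_one]
      omega
    refine ⟨_, k', basisOfTopLeSpanOfCardEqFinrank f hsp hcard, fun i => ?_, fun x => ?_⟩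
    · induction i using Fin.addCases <;> simp [k']
    · simp only [coe_basisOfTopLeSpanOfCardEqFinrank]
      exact hfN x

variable {N : End F V} {r : ℕ} {k : Fin r → ℕ} {b : Basis (Σ i, Fin (k i)) F V}

theorem chain_pow (hb : IsChain N k b) (m : ℕ) (x : Σ i, Fin (k i)) :
    (N ^ m) (b x) = if h : x.2.val + m < k x.1 then b ⟨x.1, ⟨x.2.val + m, h⟩⟩ else 0 := by
  induction m with
  | zero => simp
  | succ m ih =>
    rw [pow_succ', Module.End.mul_apply, ih]
    by_cases h : x.2.val + m < k x.1
    · rw [dif_pos h, hb]
      simp only [Nat.add_assoc]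
    · rw [dif_neg h, map_zero, dif_neg (by omega)]

/-- The rank of a power. -/
theorem finrank_range_pow (hb : IsChain N k b) (m : ℕ) :
    finrank F (LinearMap.range (N ^ m)) = ∑ i, (k i - m) := by
  classical
  let emb : (Σ i, Fin (k i - m)) → Σ i, Fin (k i) := fun y =>
    ⟨y.1, ⟨y.2.val + m, by have := y.2.isLt; omega⟩⟩
  have hli : LinearIndependent F fun y => b (emb y) := b.linearIndependent.comp emb (by
    rintro ⟨i, a⟩ ⟨j, c⟩ h
    obtain ⟨rfl, h2⟩ := Sigma.mk.inj_iff.1 h
    have := congrArg Fin.val (eq_of_heq h2)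
    exact congrArg (Sigma.mk i) (Fin.ext (Nat.add_right_cancel this)))
  have hspan : LinearMap.range (N ^ m) = Submodule.span F (Set.range fun y => b (emb y)) := by
    rw [LinearMap.range_eq_map, ← b.span_eq, Submodule.map_span]
    refine le_antisymm (Submodule.span_le.2 ?_) (Submodule.span_le.2 ?_)
    · rintro _ ⟨_, ⟨x, rfl⟩, rfl⟩
      rw [chain_pow hb]
      by_cases h : x.2.val + m < k x.1
      · rw [dif_pos h]
        exact Submodule.subset_span ⟨⟨x.1, ⟨x.2.val, by omega⟩⟩, rfl⟩
      · rw [dif_neg h]; exact zero_mem _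
    · rintro _ ⟨y, rfl⟩
      refine Submodule.subset_span ⟨_, ⟨⟨y.1, ⟨y.2.val, by have := y.2.isLt; omega⟩⟩, rfl⟩, ?_⟩
      rw [chain_pow hb, dif_pos (show y.2.val + m < k y.1 by have := y.2.isLt; omega)]
  rw [hspan, finrank_span_eq_card hli]
  simp

theorem chain_isNilpotent (hb : IsChain N k b) : IsNilpotent N := by
  refine ⟨∑ i, k i, b.ext fun x => ?_⟩
  rw [chain_pow hb, dif_neg]
  · rfl
  · have := Finset.single_le_sum (f := k) (fun i _ => Nat.zero_le _) (Finset.mem_univ x.1)
    omega

theorem card_filter_sum (k : Fin r → ℕ) (m : ℕ) :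
    (Finset.univ.filter fun i => m < k i).card + ∑ i, (k i - (m + 1)) = ∑ i, (k i - m) := by
  rw [Finset.card_filter, ← Finset.sum_add_distrib]
  refine Finset.sum_congr rfl fun i _ => ?_
  split <;> omega

/-- The ranks of the powers determine the chain lengths. -/
theorem lengths_eq {r' : ℕ} {k' : Fin r' → ℕ} (hk : ∀ i, 0 < k i) (hk' : ∀ i, 0 < k' i)
    (h : ∀ m, ∑ i, (k i - m) = ∑ i, (k' i - m)) :
    Finset.univ.val.map k = Finset.univ.val.map k' := by
  have hgt : ∀ m, (Finset.univ.filter fun i => m < k i).card = (Finset.univ.filter fun i => m < k' i).card :=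
    fun m => by
      have h1 := card_filter_sum k m
      have h2 := card_filter_sum k' m
      rw [h m, h (m + 1)] at h1
      omega
  refine Multiset.ext.2 fun a => ?_
  rw [Multiset.count_map, Multiset.count_map]
  show (Finset.univ.filter fun i => a = k i).card = (Finset.univ.filter fun i => a = k' i).card
  rcases Nat.eq_zero_or_pos a with rfl | ha
  · rw [Finset.filter_false_of_mem fun i _ => (hk i).ne, Finset.filter_false_of_mem fun i _ => (hk' i).ne]
    simp
  have hsplit : ∀ {s : ℕ} (l : Fin s → ℕ), (Finset.univ.filter fun i => a - 1 < l i).card =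
      (Finset.univ.filter fun i => a = l i).card + (Finset.univ.filter fun i => a < l i).card := fun {s} l => by
    rw [Finset.card_filter, Finset.card_filter, Finset.card_filter, ← Finset.sum_add_distrib]
    refine Finset.sum_congr rfl fun i _ => ?_
    split_ifs <;> omega
  have h1 := hsplit k
  have h2 := hsplit k'
  have := hgt (a - 1)
  have := hgt a
  omega

/-- Chain bases with equally many chains of every length give an intertwining isomorphism. -/
theorem exists_intertwine {V' : Type*} [AddCommGroup V'] [Module F V'] {N' : End F V'} {r' : ℕ} {k' : Fin r' → ℕ}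
    {b' : Basis (Σ i, Fin (k' i)) F V'} (hb : IsChain N k b) (hb' : IsChain N' k' b')
    (h : Finset.univ.val.map k = Finset.univ.val.map k') : ∃ e : V ≃ₗ[F] V', ∀ v, e (N v) = N' (e v) := by
  classical
  have hc : ∀ a, Fintype.card {i // k i = a} = Fintype.card {i // k' i = a} := fun a => by
    have h' := congrArg (Multiset.count a) h
    rw [Multiset.count_map, Multiset.count_map] at h'
    rw [Fintype.card_subtype, Fintype.card_subtype]
    convert h' using 1 <;>
      exact congrArg Finset.card (Finset.filter_congr fun i _ => eq_comm)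
  let σ : Fin r ≃ Fin r' := Equiv.ofFiberEquiv (f := k) (g := k') fun a => Fintype.equivOfCardEq (hc a)
  have hσ : ∀ i, k' (σ i) = k i := fun i => Equiv.ofFiberEquiv_map _ i
  let τ : (Σ i, Fin (k i)) ≃ Σ i, Fin (k' i) :=
    (Equiv.sigmaCongrRight fun i => finCongr (hσ i).symm).trans (Equiv.sigmaCongrLeft (β := fun i => Fin (k' i)) σ)
  have hτ : ∀ x, τ x = ⟨σ x.1, ⟨x.2.val, (hσ x.1).symm ▸ x.2.isLt⟩⟩ := fun x => rfl
  refine ⟨b.equiv b' τ, fun v => ?_⟩
  have key : ((b.equiv b' τ : V ≃ₗ[F] V') : V →ₗ[F] V') ∘ₗ N =
      N' ∘ₗ ((b.equiv b' τ : V ≃ₗ[F] V') : V →ₗ[F] V') := by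
    refine b.ext fun x => ?_
    rw [LinearMap.comp_apply, LinearMap.comp_apply, LinearEquiv.coe_coe, hb, Basis.equiv_apply, hb', hτ]
    by_cases hx : x.2.val + 1 < k x.1
    · rw [dif_pos hx, dif_pos (show x.2.val + 1 < k' (σ x.1) by rw [hσ]; exact hx), Basis.equiv_apply, hτ]
    · rw [dif_neg hx, dif_neg (show ¬ x.2.val + 1 < k' (σ x.1) by rw [hσ]; exact hx), map_zero]
  exact LinearMap.congr_fun key v

end CfsgLib.NilType
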