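import Cfsg.Agent.NilType.Matrix
import Cfsg.Prelude.Def_JordanBlocks

/-!
Nilpotent matrices on an arbitrary index type, and the prescribed Jordan matrix.
-/

set_option autoImplicit false

open Module

namespace CfsgLib.NilType

variable {F : Type*} [Field F] {ι : Type*} [Fintype ι] [DecidableEq ι]

theorem rank_pow_eq' (A : Matrix ι ι F) (m : ℕ) :
    (A ^ m).rank = finrank F (LinearMap.range ((Matrix.toLinAlgEquiv' A) ^ m)) := by
  rw [← map_pow]
  rfl

/-- The ranks of the powers form the rank sequence of the multiset `s` of block sizes. -/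
def HasSizes (A : Matrix ι ι F) (s : Multiset ℕ) : Prop := ∀ m, (A ^ m).rank = (s.map fun a => a - m).sum

theorem HasSizes.card_eq {A : Matrix ι ι F} {s : Multiset ℕ} (h : HasSizes A s) : Fintype.card ι = s.sum := by
  have := h 0
  rwa [pow_zero, Matrix.rank_one, Multiset.map_congr rfl (fun a _ => Nat.sub_zero a), Multiset.map_id'] at this

/-- Nilpotent matrices with the same ranks of powers are similar. -/
theorem isConj_of_rank {A B : Matrix ι ι F} (hA : IsNilpotent A) (hB : IsNilpotent B)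
    (h : ∀ m, (A ^ m).rank = (B ^ m).rank) : IsConj A B := by
  obtain ⟨r, k, b, hk, hb⟩ := exists_chain (Matrix.toLinAlgEquiv' A) (hA.map _)
  obtain ⟨r', k', b', hk', hb'⟩ := exists_chain (Matrix.toLinAlgEquiv' B) (hB.map _)
  have hl := lengths_eq hk hk' fun m => by
    rw [← finrank_range_pow hb, ← finrank_range_pow hb', ← rank_pow_eq', ← rank_pow_eq', h]
  obtain ⟨e, he⟩ := exists_intertwine hb hb' hl
  have hM : ∀ v, Matrix.mulVec (LinearMap.toMatrix' (e : (ι → F) →ₗ[F] (ι → F))) v = e v := fun v => by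
    rw [LinearMap.toMatrix'_mulVec]; rfl
  have hu : IsUnit (LinearMap.toMatrix' (e : (ι → F) →ₗ[F] (ι → F))) := by
    rw [← Matrix.mulVec_injective_iff_isUnit]
    exact fun x y hxy => e.injective (by rw [← hM, ← hM]; exact hxy)
  refine ⟨hu.unit, Matrix.ext_of_mulVec_single fun i => ?_⟩
  rw [IsUnit.unit_spec, ← Matrix.mulVec_mulVec, ← Matrix.mulVec_mulVec, hM, hM]
  exact he _

theorem isConj_sub_one_iff {A B : Matrix ι ι F} : IsConj A B ↔ IsConj (A - 1) (B - 1) := by
  constructor <;> rintro ⟨c, hc⟩ <;> refine ⟨c, ?_⟩ <;>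
    have e := (show SemiconjBy c.1 _ _ from hc).eq <;> show _ = _
  · rw [mul_sub, sub_mul, e, mul_one, one_mul]
  · rw [mul_sub, sub_mul, mul_one, one_mul, sub_left_inj] at e
    exact e

theorem rank_pow_of_isConj {A B : Matrix ι ι F} (h : IsConj A B) (m : ℕ) : (A ^ m).rank = (B ^ m).rank := by
  obtain ⟨c, hc⟩ := h
  have hm : SemiconjBy (c : Matrix ι ι F) (A ^ m) (B ^ m) := hc.pow_right m
  have := congrArg Matrix.rank hm.eq
  rwa [Matrix.rank_mul_eq_right_of_isUnit_det _ _ (Matrix.isUnits_det_units c),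
    Matrix.rank_mul_eq_left_of_isUnit_det _ _ (Matrix.isUnits_det_units c)] at this

theorem isNilpotent_of_isConj {A B : Matrix ι ι F} (h : IsConj A B) (hA : IsNilpotent A) : IsNilpotent B := by
  obtain ⟨c, hc⟩ := h
  obtain ⟨k, hk⟩ := hA
  have h' := (SemiconjBy.pow_right (show SemiconjBy (c : Matrix ι ι F) A B from hc) k).eq
  rw [hk, mul_zero] at h'
  exact ⟨k, c.isUnit.mul_left_eq_zero.1 h'.symm⟩

variable {t : ℕ} (d : Fin t → ℕ)

theorem jordanTypeMatrix_chain :
    IsChain (Matrix.toLinAlgEquiv' (Cfsg.jordanTypeMatrix d F - 1)) d (Pi.basisFun F _) := by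
  intro x
  obtain ⟨a, j⟩ := x
  rw [Pi.basisFun_apply, Matrix.toLinAlgEquiv'_apply, Matrix.mulVec_single_one]
  ext ⟨b, i⟩
  show (Cfsg.jordanTypeMatrix d F - 1) ⟨b, i⟩ ⟨a, j⟩ = _
  rw [Matrix.sub_apply, Cfsg.jordanTypeMatrix]
  by_cases hab : b = a
  · subst hab
    rw [Matrix.blockDiagonal'_apply_eq]
    simp only [Cfsg.jordanBlock, Matrix.of_apply]
    by_cases hj : j.val + 1 < d b
    · rw [dif_pos hj, Pi.basisFun_apply, Pi.single_apply, Matrix.one_apply]
      simp only [Sigma.mk.injEq, heq_eq_eq, true_and, Fin.ext_iff]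
      split_ifs <;> first | (exfalso; omega) | ring
    · rw [dif_neg hj, Pi.zero_apply, Matrix.one_apply]
      have := i.isLt
      simp only [Sigma.mk.injEq, heq_eq_eq, true_and, Fin.ext_iff]
      split_ifs <;> first | (exfalso; omega) | ring
  · rw [Matrix.blockDiagonal'_apply_ne _ _ _ hab, Matrix.one_apply_ne (fun h => hab (congrArg Sigma.fst h)), sub_zero]
    split
    · rw [Pi.basisFun_apply, Pi.single_apply, if_neg (fun h => hab (congrArg Sigma.fst h))]
    · rfl

theorem jordanTypeMatrix_nilpotent : IsNilpotent (Cfsg.jordanTypeMatrix d F - 1) := by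
  obtain ⟨m, hm⟩ := chain_isNilpotent (jordanTypeMatrix_chain (F := F) d)
  exact ⟨m, Matrix.toLinAlgEquiv'.injective (by rw [map_pow, hm, map_zero])⟩

theorem jordanTypeMatrix_sizes :
    HasSizes (Cfsg.jordanTypeMatrix d F - 1) (Finset.univ.val.map d) := fun m => by
  rw [rank_pow_eq', finrank_range_pow (jordanTypeMatrix_chain d)]
  simp only [Multiset.map_map]
  rfl

variable {κ : Type*} [Fintype κ] [DecidableEq κ]

theorem reindex_sizes (e : ι ≃ κ) {A : Matrix ι ι F} {s : Multiset ℕ} (hA : IsNilpotent (A - 1))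
    (h : HasSizes (A - 1) s) :
    IsNilpotent (Matrix.reindex e e A - 1) ∧ HasSizes (Matrix.reindex e e A - 1) s := by
  have e1 : Matrix.reindex e e A - 1 = Matrix.reindexAlgEquiv F F e (A - 1) := by
    rw [map_sub, map_one]; rfl
  rw [e1]
  refine ⟨hA.map _, fun m => ?_⟩
  rw [← map_pow]
  exact (Matrix.rank_reindex e e _).trans (h m)

/-- Similarity to the matrix of prescribed block sizes. -/
theorem exists_equiv_isConj_iff {G : Set (Matrix κ κ F)} :
    (∃ e : ((k : Fin t) × Fin (d k)) ≃ κ, ∃ A ∈ G, IsConj (Matrix.reindex e e (Cfsg.jordanTypeMatrix d F)) A) ↔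
      ∃ A ∈ G, IsNilpotent (A - 1) ∧ HasSizes (A - 1) (Finset.univ.val.map d) := by
  constructor
  · rintro ⟨e, A, hA, hc⟩
    obtain ⟨h1, h2⟩ := reindex_sizes e (jordanTypeMatrix_nilpotent (F := F) d) (jordanTypeMatrix_sizes d)
    have hc' := isConj_sub_one_iff.1 hc
    exact ⟨A, hA, isNilpotent_of_isConj hc' h1, fun m => (rank_pow_of_isConj hc' m).symm.trans (h2 m)⟩
  · rintro ⟨A, hA, h1, h2⟩
    obtain ⟨e⟩ : Nonempty (((k : Fin t) × Fin (d k)) ≃ κ) := ⟨Fintype.equivOfCardEq (by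
      rw [h2.card_eq]; simp [Finset.sum])⟩
    obtain ⟨h3, h4⟩ := reindex_sizes e (jordanTypeMatrix_nilpotent (F := F) d) (jordanTypeMatrix_sizes d)
    exact ⟨e, A, hA, isConj_sub_one_iff.2 (isConj_of_rank h3 h1 fun m => (h4 m).trans (h2 m).symm)⟩

end CfsgLib.NilType
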