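import Cfsg.Agent.NilType.Chains
import Mathlib.LinearAlgebra.Matrix.Rank
import Mathlib.LinearAlgebra.Matrix.GeneralLinearGroup.Defs
import Mathlib.Combinatorics.Enumerative.Partition.Basic

/-!
Nilpotent matrices up to similarity and partitions.
-/

set_option autoImplicit false

open Module

namespace CfsgLib.NilType

variable {F : Type*} [Field F] {n : ℕ}

/-- The rank sequence of a partition. -/
def prank (μ : Nat.Partition n) (m : ℕ) : ℕ := (μ.parts.map fun a => a - m).sum

/-- The nilpotent matrix `A` has Jordan type `μ`. -/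
def HasType (A : Matrix (Fin n) (Fin n) F) (μ : Nat.Partition n) : Prop := ∀ m, (A ^ m).rank = prank μ m

theorem rank_pow_eq (A : Matrix (Fin n) (Fin n) F) (m : ℕ) :
    (A ^ m).rank = finrank F (LinearMap.range ((Matrix.toLinAlgEquiv' A) ^ m)) := by
  rw [← map_pow]
  rfl

theorem exists_type {A : Matrix (Fin n) (Fin n) F} (hA : IsNilpotent A) : ∃ μ, HasType A μ := by
  obtain ⟨r, k, b, hk, hb⟩ := exists_chain (Matrix.toLinAlgEquiv' A) (hA.map _)
  refine ⟨⟨Finset.univ.val.map k, fun {i} hi => ?_, ?_⟩, fun m => ?_⟩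
  · obtain ⟨j, -, rfl⟩ := Multiset.mem_map.1 hi
    exact hk j
  · have := (finrank_eq_card_basis b).symm
    rw [Module.finrank_fin_fun] at this
    simpa [Finset.sum] using this
  · rw [rank_pow_eq, finrank_range_pow hb, prank]
    simp only [Multiset.map_map]
    rfl

theorem prank_injective {μ ν : Nat.Partition n} (h : ∀ m, prank μ m = prank ν m) : μ = ν := by
  refine Nat.Partition.ext ?_
  have key : ∀ ρ : Nat.Partition n, ∃ (r : ℕ) (k : Fin r → ℕ), Finset.univ.val.map k = ρ.parts ∧ (∀ i, 0 < k i) ∧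
      ∀ m, ∑ i, (k i - m) = prank ρ m := fun ρ => by
    have e : Finset.univ.val.map ρ.parts.toList.get = ρ.parts := by
      rw [Fin.univ_val_map, List.ofFn_get, Multiset.coe_toList]
    refine ⟨_, ρ.parts.toList.get, e, fun i => ρ.parts_pos (Multiset.mem_toList.1 (List.get_mem _ _)), fun m => ?_⟩
    rw [prank]
    conv_rhs => rw [← e, Multiset.map_map]
    rfl
  obtain ⟨r, k, hk, hkp, hkm⟩ := key μ
  obtain ⟨r', k', hk', hkp', hkm'⟩ := key ν
  rw [← hk, ← hk']
  exact lengths_eq hkp hkp' fun m => by rw [hkm, hkm', h]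

theorem HasType.unique {A : Matrix (Fin n) (Fin n) F} {μ ν : Nat.Partition n} (h : HasType A μ) (h' : HasType A ν) :
    μ = ν :=
  prank_injective fun m => (h m).symm.trans (h' m)

theorem rank_of_isConj {A B : Matrix (Fin n) (Fin n) F} (h : IsConj A B) (m : ℕ) : (A ^ m).rank = (B ^ m).rank := by
  obtain ⟨c, hc⟩ := h
  have hm : SemiconjBy (c : Matrix (Fin n) (Fin n) F) (A ^ m) (B ^ m) := hc.pow_right m
  have := congrArg Matrix.rank hm.eq
  rwa [Matrix.rank_mul_eq_right_of_isUnit_det _ _ (Matrix.isUnits_det_units c),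
    Matrix.rank_mul_eq_left_of_isUnit_det _ _ (Matrix.isUnits_det_units c)] at this

/-- Nilpotent matrices with the same ranks of powers are similar. -/
theorem isConj_iff_rank {A B : Matrix (Fin n) (Fin n) F} (hA : IsNilpotent A) (hB : IsNilpotent B) :
    IsConj A B ↔ ∀ m, (A ^ m).rank = (B ^ m).rank := by
  refine ⟨rank_of_isConj, fun h => ?_⟩
  obtain ⟨r, k, b, hk, hb⟩ := exists_chain (Matrix.toLinAlgEquiv' A) (hA.map _)
  obtain ⟨r', k', b', hk', hb'⟩ := exists_chain (Matrix.toLinAlgEquiv' B) (hB.map _)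
  have hl := lengths_eq hk hk' fun m => by
    rw [← finrank_range_pow hb, ← finrank_range_pow hb', ← rank_pow_eq, ← rank_pow_eq, h]
  obtain ⟨e, he⟩ := exists_intertwine hb hb' hl
  have hM : ∀ v, Matrix.mulVec (LinearMap.toMatrix' (e : (Fin n → F) →ₗ[F] (Fin n → F))) v = e v := fun v => by
    rw [LinearMap.toMatrix'_mulVec]; rfl
  have hu : IsUnit (LinearMap.toMatrix' (e : (Fin n → F) →ₗ[F] (Fin n → F))) := by
    rw [← Matrix.mulVec_injective_iff_isUnit]
    exact fun x y hxy => e.injective (by rw [← hM, ← hM]; exact hxy)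
  refine ⟨hu.unit, Matrix.ext_of_mulVec_single fun i => ?_⟩
  rw [IsUnit.unit_spec, ← Matrix.mulVec_mulVec, ← Matrix.mulVec_mulVec, hM, hM]
  exact he _

theorem isConj_of_type {A B : Matrix (Fin n) (Fin n) F} (hA : IsNilpotent A) (hB : IsNilpotent B) {μ : Nat.Partition n}
    (h : HasType A μ) (h' : HasType B μ) : IsConj A B :=
  (isConj_iff_rank hA hB).2 fun m => (h m).trans (h' m).symm

/-- Every partition is the type of a nilpotent matrix with entries `0` and `1`. -/
theorem exists_matrix (μ : Nat.Partition n) : ∃ A : Matrix (Fin n) (Fin n) F,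
    IsNilpotent A ∧ HasType A μ ∧ ∀ f : F →+* F, A.map f = A := by
  classical
  let k : Fin μ.parts.toList.length → ℕ := μ.parts.toList.get
  have e : Finset.univ.val.map k = μ.parts := by
    rw [Fin.univ_val_map, List.ofFn_get, Multiset.coe_toList]
  have hcard : Fintype.card (Σ i, Fin (k i)) = n := by
    rw [Fintype.card_sigma]
    simp only [Fintype.card_fin, Finset.sum]
    rw [e, μ.parts_sum]
  let s : (Σ i, Fin (k i)) ≃ Fin n := Fintype.equivFinOfCardEq hcard
  let A : Matrix (Fin n) (Fin n) F := fun i j =>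
    if (s.symm i).1 = (s.symm j).1 ∧ (s.symm i).2.val = (s.symm j).2.val + 1 then 1 else 0
  have hb : IsChain (Matrix.toLinAlgEquiv' A) k ((Pi.basisFun F (Fin n)).reindex s.symm) := by
    intro x
    rw [Basis.reindex_apply, Equiv.symm_symm, Pi.basisFun_apply, Matrix.toLinAlgEquiv'_apply, Matrix.mulVec_single_one]
    ext i
    obtain ⟨y, rfl⟩ := s.surjective i
    show (if (s.symm (s y)).1 = (s.symm (s x)).1 ∧ (s.symm (s y)).2.val = (s.symm (s x)).2.val + 1 then (1 : F) else 0) = _
    rw [Equiv.symm_apply_apply, Equiv.symm_apply_apply]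
    by_cases hx : x.2.val + 1 < k x.1
    · rw [dif_pos hx, Basis.reindex_apply, Equiv.symm_symm, Pi.basisFun_apply, Pi.single_apply]
      refine if_congr ?_ rfl rfl
      rw [s.injective.eq_iff]
      obtain ⟨y1, y2⟩ := y
      obtain ⟨x1, x2⟩ := x
      constructor
      · rintro ⟨h1, h2⟩
        obtain rfl : y1 = x1 := h1
        exact Sigma.ext rfl (heq_of_eq (Fin.ext h2))
      · intro h
        obtain ⟨rfl, h2⟩ := Sigma.mk.inj_iff.1 h
        exact ⟨rfl, congrArg Fin.val (eq_of_heq h2)⟩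
    · rw [dif_neg hx, if_neg, Pi.zero_apply]
      rintro ⟨h1, h2⟩
      have := y.2.isLt
      have hk' : k y.1 = k x.1 := congrArg k h1
      omega
  refine ⟨A, ?_, fun m => ?_, fun f => ?_⟩
  · obtain ⟨m, hm⟩ := chain_isNilpotent hb
    exact ⟨m, Matrix.toLinAlgEquiv'.injective (by rw [map_pow, hm, map_zero])⟩
  · rw [rank_pow_eq, finrank_range_pow hb, prank]
    conv_rhs => rw [← e, Multiset.map_map]
    rfl
  · ext i j
    show f (if _ then (1 : F) else 0) = _
    rw [apply_ite f, map_one, map_zero]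

theorem prank_eq_zero_iff {μ : Nat.Partition n} {m : ℕ} : prank μ m = 0 ↔ ∀ a ∈ μ.parts, a ≤ m := by
  simp [prank, Multiset.sum_eq_zero_iff, Nat.sub_eq_zero_iff_le]

theorem pow_eq_zero_iff_type {A : Matrix (Fin n) (Fin n) F} {μ : Nat.Partition n} (h : HasType A μ) (m : ℕ) :
    A ^ m = 0 ↔ ∀ a ∈ μ.parts, a ≤ m := by
  rw [← prank_eq_zero_iff, ← h m]
  refine ⟨fun h0 => by rw [h0, Matrix.rank_zero], fun h0 => ?_⟩
  refine Matrix.ext_of_mulVec_single fun i => ?_
  rw [Matrix.zero_mulVec]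
  have h1 : LinearMap.range (A ^ m).mulVecLin = ⊥ := Submodule.finrank_eq_zero.1 h0
  exact (Submodule.mem_bot F).1 (h1 ▸ LinearMap.mem_range_self (A ^ m).mulVecLin (Pi.single i 1))

end CfsgLib.NilType
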