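import Cfsg.Agent.NilType.Gen
import Cfsg.Agent.FormConj.RegExist
import Mathlib.LinearAlgebra.Matrix.Permutation
import Mathlib.LinearAlgebra.Prod

/-!
Unipotent isometries with prescribed block sizes.
-/

set_option autoImplicit false

open Matrix Module

namespace CfsgLib.NilType

variable (F : Type*) [Field F]

/-- The sizes `s` occur for an isometry of an alternating form. -/
def RealSp (s : Multiset ℕ) : Prop :=
  ∃ (ι : Type) (_ : Fintype ι) (_ : DecidableEq ι) (G u : Matrix ι ι F), IsUnit G.det ∧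
    (∀ x : ι → F, x ⬝ᵥ G *ᵥ x = 0) ∧ uᵀ * G * u = G ∧ IsNilpotent (u - 1) ∧ HasSizes (u - 1) s

/-- The sizes `s` occur for an isometry of a quadratic form with non-degenerate polar form. -/
def RealQ (s : Multiset ℕ) : Prop :=
  ∃ (ι : Type) (_ : Fintype ι) (_ : DecidableEq ι) (K u : Matrix ι ι F), IsUnit (K + Kᵀ).det ∧
    (∀ x : ι → F, (u *ᵥ x) ⬝ᵥ K *ᵥ (u *ᵥ x) = x ⬝ᵥ K *ᵥ x) ∧ IsNilpotent (u - 1) ∧ HasSizes (u - 1) s

variable {F} {ι κ : Type} [Fintype ι] [DecidableEq ι] [Fintype κ] [DecidableEq κ]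

theorem rank_blocks (A : Matrix ι ι F) (D : Matrix κ κ F) : (fromBlocks A 0 0 D).rank = A.rank + D.rank := by
  let e := LinearEquiv.sumArrowLequivProdArrow ι κ F F
  have h : (fromBlocks A 0 0 D).mulVecLin =
      (e.symm : ((ι → F) × (κ → F)) →ₗ[F] (ι ⊕ κ → F)) ∘ₗ (A.mulVecLin.prodMap D.mulVecLin) ∘ₗ
        (e : (ι ⊕ κ → F) →ₗ[F] (ι → F) × (κ → F)) := by
    refine LinearMap.ext fun x => ?_
    rw [Matrix.mulVecLin_apply, Matrix.fromBlocks_mulVec]
    ext (i | i) <;> simp [e, LinearEquiv.sumArrowLequivProdArrow, Equiv.sumArrowEquivProdArrow, Function.comp_def]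
  show finrank F (LinearMap.range (fromBlocks A 0 0 D).mulVecLin) = _
  rw [h, LinearMap.range_comp, LinearEquiv.finrank_map_eq, LinearMap.range_comp, LinearEquiv.range, Submodule.map_top]
  rw [LinearMap.range_prodMap]
  let p := LinearMap.range A.mulVecLin
  let q := LinearMap.range D.mulVecLin
  let E : ↥(p.prod q) ≃ₗ[F] p × q :=
    { toFun := fun x => (⟨x.1.1, x.2.1⟩, ⟨x.1.2, x.2.2⟩)
      invFun := fun y => ⟨(y.1.1, y.2.1), y.1.2, y.2.2⟩
      map_add' := fun _ _ => rfl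
      map_smul' := fun _ _ => rfl
      left_inv := fun _ => rfl
      right_inv := fun _ => rfl }
  exact (LinearEquiv.finrank_eq E).trans Module.finrank_prod

theorem blocks_pow (A : Matrix ι ι F) (D : Matrix κ κ F) (m : ℕ) :
    fromBlocks A 0 0 D ^ m = fromBlocks (A ^ m) 0 0 (D ^ m) := by
  induction m with
  | zero => simp [Matrix.fromBlocks_one]
  | succ m ih => rw [pow_succ, ih, Matrix.fromBlocks_multiply]; simp [pow_succ]

theorem blocks_sub_one (A : Matrix ι ι F) (D : Matrix κ κ F) :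
    fromBlocks A 0 0 D - 1 = fromBlocks (A - 1) 0 0 (D - 1) := by
  rw [← Matrix.fromBlocks_one, sub_eq_add_neg, Matrix.fromBlocks_neg, Matrix.fromBlocks_add]
  simp [sub_eq_add_neg]

theorem blocks_spec {u : Matrix ι ι F} {u' : Matrix κ κ F} {s s' : Multiset ℕ} (h1 : IsNilpotent (u - 1))
    (h2 : HasSizes (u - 1) s) (h1' : IsNilpotent (u' - 1)) (h2' : HasSizes (u' - 1) s') :
    IsNilpotent (fromBlocks u 0 0 u' - 1) ∧ HasSizes (fromBlocks u 0 0 u' - 1) (s + s') := by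
  rw [blocks_sub_one]
  obtain ⟨a, ha⟩ := h1
  obtain ⟨b, hb⟩ := h1'
  refine ⟨⟨a + b, ?_⟩, fun m => ?_⟩
  · rw [blocks_pow, pow_add, ha, zero_mul, pow_add, hb, mul_zero]; simp
  · rw [blocks_pow, rank_blocks, h2 m, h2' m, Multiset.map_add, Multiset.sum_add]

theorem det_blocks_isUnit {A : Matrix ι ι F} {D : Matrix κ κ F} (hA : IsUnit A.det) (hD : IsUnit D.det) :
    IsUnit (fromBlocks A 0 0 D).det := by
  rw [Matrix.det_fromBlocks_zero₁₂]; exact hA.mul hD

theorem quad_blocks (A : Matrix ι ι F) (D : Matrix κ κ F) (x : ι ⊕ κ → F) :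
    x ⬝ᵥ fromBlocks A 0 0 D *ᵥ x =
      (x ∘ Sum.inl) ⬝ᵥ A *ᵥ (x ∘ Sum.inl) + (x ∘ Sum.inr) ⬝ᵥ D *ᵥ (x ∘ Sum.inr) := by
  rw [Matrix.fromBlocks_mulVec]
  simp [dotProduct, Fintype.sum_sum_type]

theorem RealSp.add {s s' : Multiset ℕ} (h : RealSp F s) (h' : RealSp F s') : RealSp F (s + s') := by
  obtain ⟨ι, _, _, G, u, hG, ha, hu, h1, h2⟩ := h
  obtain ⟨κ, _, _, G', u', hG', ha', hu', h1', h2'⟩ := h'
  refine ⟨ι ⊕ κ, inferInstance, inferInstance, fromBlocks G 0 0 G', fromBlocks u 0 0 u', det_blocks_isUnit hG hG',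
    fun x => by rw [quad_blocks, ha, ha', add_zero], ?_, blocks_spec h1 h2 h1' h2'⟩
  rw [Matrix.fromBlocks_transpose, Matrix.fromBlocks_multiply, Matrix.fromBlocks_multiply]
  simp [hu, hu']

theorem RealQ.add {s s' : Multiset ℕ} (h : RealQ F s) (h' : RealQ F s') : RealQ F (s + s') := by
  obtain ⟨ι, _, _, K, u, hK, hu, h1, h2⟩ := h
  obtain ⟨κ, _, _, K', u', hK', hu', h1', h2'⟩ := h'
  refine ⟨ι ⊕ κ, inferInstance, inferInstance, fromBlocks K 0 0 K', fromBlocks u 0 0 u', ?_, fun x => ?_,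
    blocks_spec h1 h2 h1' h2'⟩
  · rw [Matrix.fromBlocks_transpose, Matrix.fromBlocks_add]
    simpa using det_blocks_isUnit hK hK'
  · rw [quad_blocks, quad_blocks, Matrix.fromBlocks_mulVec]
    simp only [Sum.elim_comp_inl, Sum.elim_comp_inr, Matrix.zero_mulVec, add_zero, zero_add, hu, hu']

theorem realSp_zero : RealSp F 0 :=
  ⟨Fin 0, inferInstance, inferInstance, 1, 1, by simp, fun x => by simp [dotProduct], by simp, by simp,
    fun m => le_antisymm ((Matrix.rank_le_card_width _).trans (by simp)) (by simp)⟩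

theorem realQ_zero : RealQ F 0 :=
  ⟨Fin 0, inferInstance, inferInstance, 0, 1, by simp [Matrix.det_isEmpty], fun x => by simp [dotProduct], by simp,
    fun m => le_antisymm ((Matrix.rank_le_card_width _).trans (by simp)) (by simp)⟩

/-- A nilpotent matrix of corank one is a single block. -/
theorem sizes_regular {N : Matrix ι ι F} {n : ℕ} (hn : 1 ≤ n) (hcard : Fintype.card ι = n) (hN : IsNilpotent N)
    (hr : N.rank = n - 1) : HasSizes N {n} := by
  obtain ⟨r, k, b, hk, hb⟩ := exists_chain (Matrix.toLinAlgEquiv' N) (hN.map _)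
  have h0 : ∑ i, k i = n := by
    have := finrank_eq_card_basis b
    rw [Module.finrank_fintype_fun_eq_card, hcard] at this
    simpa using this.symm
  have h1 : ∑ i, (k i - 1) = n - 1 := by
    rw [← finrank_range_pow hb 1, ← rank_pow_eq', pow_one, hr]
  have h2 : ∑ i, (k i - 1) + r = ∑ i, k i := by
    have : ∀ i, k i - 1 + 1 = k i := fun i => Nat.sub_add_cancel (hk i)
    rw [← Finset.sum_congr rfl fun i _ => this i, Finset.sum_add_distrib]
    simp
  obtain rfl : r = 1 := by omega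
  intro m
  rw [rank_pow_eq', finrank_range_pow hb m]
  simp only [Fin.sum_univ_one] at h0 ⊢
  simp [h0]

theorem realSp_even {a : ℕ} (ha : Even a) (hpos : 1 ≤ a) : RealSp F {a} := by
  obtain ⟨m, rfl⟩ := ha
  obtain ⟨u, h1, h2⟩ := CfsgLib.FormConj.exists_reg_symp F m (by omega)
  refine ⟨Fin m ⊕ Fin m, inferInstance, inferInstance, Matrix.J (Fin m) F, u.1, Matrix.isUnit_det_J _ _, fun x => ?_,
    SymplecticGroup.mem_iff'.1 u.2, ⟨_, h1⟩, sizes_regular hpos (by simp) ⟨_, h1⟩ (by rw [h2]; congr 1; omega)⟩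
  rw [Matrix.J, Matrix.fromBlocks_mulVec]
  simp only [dotProduct, Fintype.sum_sum_type, Sum.elim_inl, Sum.elim_inr, Pi.add_apply, Matrix.zero_mulVec,
    Matrix.neg_mulVec, Matrix.one_mulVec, zero_add, add_zero, Pi.neg_apply, Function.comp_apply]
  rw [← Finset.sum_add_distrib]
  exact Finset.sum_eq_zero fun i _ => by ring

/-- The data of a dual pair of blocks. -/
theorem exists_pair_data (a : ℕ) (hpos : 1 ≤ a) : ∃ A A' : Matrix (Fin a) (Fin a) F, Aᵀ * A' = 1 ∧ A'ᵀ * A = 1 ∧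
    IsNilpotent (fromBlocks A 0 0 A' - 1) ∧ HasSizes (fromBlocks A 0 0 A' - 1) {a, a} := by
  obtain ⟨S, hS⟩ : ∃ S, S = CfsgLib.GLOrders.shiftMat F a := ⟨_, rfl⟩
  have hSn : S ^ a = 0 := hS ▸ CfsgLib.GLOrders.shiftMat_pow_self
  have hd : IsUnit (1 + S)ᵀ.det := by
    rw [Matrix.det_transpose, ← Matrix.isUnit_iff_isUnit_det]
    exact IsNilpotent.isUnit_one_add ⟨a, hSn⟩
  obtain ⟨A', hA'⟩ : ∃ A', A' = (1 + S)ᵀ⁻¹ := ⟨_, rfl⟩
  have e1 : (1 + S)ᵀ * A' = 1 := hA' ▸ Matrix.mul_nonsing_inv _ hd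
  have e3 : A' * (1 + S)ᵀ = 1 := hA' ▸ Matrix.nonsing_inv_mul _ hd
  have hc : Commute A' Sᵀ := by
    have h := e3.trans e1.symm
    rw [Matrix.transpose_add, Matrix.transpose_one, Matrix.mul_add, Matrix.mul_one, Matrix.add_mul, Matrix.one_mul] at h
    exact add_left_cancel h
  have hA'1 : A' - 1 = -A' * Sᵀ := by
    rw [Matrix.transpose_add, Matrix.transpose_one, Matrix.mul_add, Matrix.mul_one] at e3
    rw [← e3, Matrix.neg_mul]; abel
  have h1 : IsNilpotent (1 + S - 1) := ⟨a, by rw [add_sub_cancel_left, hSn]⟩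
  have hsz : HasSizes (1 + S - 1) {a} := sizes_regular hpos (Fintype.card_fin a) h1
    (by rw [add_sub_cancel_left, hS, CfsgLib.GLOrders.rank_shiftMat hpos])
  have hpow : ∀ m, (A' - 1) ^ m = (-A') ^ m * ((1 + S - 1) ^ m)ᵀ := fun m => by
    rw [hA'1, hc.neg_left.mul_pow, add_sub_cancel_left, Matrix.transpose_pow]
  have hA'u : IsUnit (-A').det := by
    rw [Matrix.det_neg]
    exact (isUnit_one.neg.pow _).mul (hA' ▸ Matrix.isUnit_nonsing_inv_det _ hd)
  have h1' : IsNilpotent (A' - 1) := ⟨a, by rw [hpow, add_sub_cancel_left, hSn, Matrix.transpose_zero, Matrix.mul_zero]⟩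
  have hsz' : HasSizes (A' - 1) {a} := fun m => by
    rw [hpow, Matrix.rank_mul_eq_right_of_isUnit_det _ _ (by rw [Matrix.det_pow]; exact hA'u.pow m), Matrix.rank_transpose]
    exact hsz m
  refine ⟨1 + S, A', e1, ?_, blocks_spec h1 hsz h1' hsz'⟩
  have := congrArg Matrix.transpose e1
  rwa [Matrix.transpose_mul, Matrix.transpose_transpose, Matrix.transpose_one] at this

theorem realSp_pair {a : ℕ} (hpos : 1 ≤ a) : RealSp F {a, a} := by
  obtain ⟨A, A', e1, e2, h⟩ := exists_pair_data (F := F) a hpos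
  refine ⟨Fin a ⊕ Fin a, inferInstance, inferInstance, Matrix.J (Fin a) F, fromBlocks A 0 0 A',
    Matrix.isUnit_det_J _ _, fun x => ?_, ?_, h⟩
  · rw [Matrix.J, Matrix.fromBlocks_mulVec]
    simp only [dotProduct, Fintype.sum_sum_type, Sum.elim_inl, Sum.elim_inr, Pi.add_apply, Matrix.zero_mulVec,
      Matrix.neg_mulVec, Matrix.one_mulVec, zero_add, add_zero, Pi.neg_apply, Function.comp_apply]
    rw [← Finset.sum_add_distrib]
    exact Finset.sum_eq_zero fun i _ => by ring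
  · rw [Matrix.J, Matrix.fromBlocks_transpose, Matrix.fromBlocks_multiply, Matrix.fromBlocks_multiply]
    simp [e1, e2]

theorem hyp_unit (a : ℕ) :
    IsUnit ((fromBlocks 0 1 0 0 : Matrix (Fin a ⊕ Fin a) (Fin a ⊕ Fin a) F) + (fromBlocks 0 1 0 0)ᵀ).det := by
  rw [Matrix.fromBlocks_transpose, Matrix.fromBlocks_add]
  simp only [Matrix.transpose_zero, Matrix.transpose_one, add_zero, zero_add]
  refine Matrix.isUnit_det_of_left_inverse (B := fromBlocks 0 1 1 0) ?_
  rw [Matrix.fromBlocks_multiply]; simp [Matrix.fromBlocks_one]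

theorem hyp_value {a : ℕ} (x : Fin a ⊕ Fin a → F) :
    x ⬝ᵥ (fromBlocks 0 1 0 0 : Matrix (Fin a ⊕ Fin a) (Fin a ⊕ Fin a) F) *ᵥ x =
      (x ∘ Sum.inl) ⬝ᵥ (x ∘ Sum.inr) := by
  rw [Matrix.fromBlocks_mulVec]
  simp [dotProduct, Fintype.sum_sum_type]

theorem hyp_diag {a : ℕ} {A A' : Matrix (Fin a) (Fin a) F} (e : Aᵀ * A' = 1) (x : Fin a ⊕ Fin a → F) :
    (fromBlocks A 0 0 A' *ᵥ x) ⬝ᵥ (fromBlocks 0 1 0 0 : Matrix (Fin a ⊕ Fin a) (Fin a ⊕ Fin a) F) *ᵥ
        (fromBlocks A 0 0 A' *ᵥ x) = (x ∘ Sum.inl) ⬝ᵥ (x ∘ Sum.inr) := by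
  rw [hyp_value, Matrix.fromBlocks_mulVec]
  simp only [Sum.elim_comp_inl, Sum.elim_comp_inr, Matrix.zero_mulVec, add_zero, zero_add]
  rw [← Matrix.vecMul_transpose, ← Matrix.dotProduct_mulVec, Matrix.mulVec_mulVec, e, Matrix.one_mulVec]

theorem realQ_pair {a : ℕ} (hpos : 1 ≤ a) : RealQ F {a, a} := by
  obtain ⟨A, A', e1, -, h⟩ := exists_pair_data (F := F) a hpos
  exact ⟨Fin a ⊕ Fin a, inferInstance, inferInstance, fromBlocks 0 1 0 0, fromBlocks A 0 0 A', hyp_unit a,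
    fun x => by rw [hyp_diag e1, hyp_value], h⟩

theorem realQ_odd (h2 : (2 : F) ≠ 0) {n : ℕ} (hn : Odd n) : RealQ F {n} := by
  have hpos : 1 ≤ n := hn.pos
  obtain ⟨X, hX⟩ : ∃ X, X = CfsgLib.GLOrders.shiftMat F n := ⟨_, rfl⟩
  let G : Matrix (Fin n) (Fin n) F := fun i j => if i.val + j.val + 1 = n then (-1) ^ i.val else 0
  have hGG : G * G = 1 := by
    ext i j
    rw [Matrix.mul_apply, Finset.sum_eq_single i.rev]
    · show (if _ then _ else (0 : F)) * (if _ then _ else (0 : F)) = _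
      rw [if_pos (by rw [Fin.val_rev]; omega), Matrix.one_apply]
      by_cases hij : i = j
      · subst hij
        rw [if_pos rfl, if_pos (by rw [Fin.val_rev]; omega), ← pow_add, Even.neg_one_pow]
        rw [Fin.val_rev]
        obtain ⟨k, hk⟩ := hn
        exact ⟨k, by omega⟩
      · rw [if_neg hij, if_neg (fun h => hij (Fin.ext (by rw [Fin.val_rev] at h; omega))), mul_zero]
    · intro k _ hk
      show (if _ then _ else (0 : F)) * _ = 0
      rw [if_neg (fun h => hk (Fin.ext (by rw [Fin.val_rev]; omega))), zero_mul]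
    · simp
  have hGs : Gᵀ = G := by
    ext i j
    show (if _ then _ else (0 : F)) = if _ then _ else (0 : F)
    by_cases h : i.val + j.val + 1 = n
    · rw [if_pos h, if_pos (by omega), neg_one_pow_eq_pow_mod_two, neg_one_pow_eq_pow_mod_two (n := i.val)]
      obtain ⟨k, hk⟩ := hn
      congr 1; omega
    · rw [if_neg h, if_neg (by omega)]
  have hskew : Xᵀ * G = -(G * X) := by
    ext i j
    rw [← Matrix.transpose_apply (Xᵀ * G) j i, Matrix.transpose_mul, Matrix.transpose_transpose, hGs, hX,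
      Matrix.neg_apply, CfsgLib.GLOrders.mul_shiftMat, CfsgLib.GLOrders.mul_shiftMat]
    simp only [G]
    have := j.isLt
    have := i.isLt
    split_ifs <;> first
      | (exfalso; omega)
      | simp
      | (rw [show (-1 : F) ^ j.val = -(-1) ^ i.val from ?_]
         rcases Nat.even_or_odd i.val with h | h
         · have hj : Odd j.val := by
             obtain ⟨k, hk⟩ := hn; obtain ⟨l, hl⟩ := h; exact ⟨k - l - 1, by omega⟩
           rw [h.neg_one_pow, hj.neg_one_pow]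
         · have hj : Even j.val := by
             obtain ⟨k, hk⟩ := hn; obtain ⟨l, hl⟩ := h; exact ⟨k - l - 1, by omega⟩
           rw [h.neg_one_pow, hj.neg_one_pow, neg_neg])
  have hXn : IsNilpotent X := ⟨n, hX ▸ CfsgLib.GLOrders.shiftMat_pow_self⟩
  have hW : IsUnit (1 - X).det := by
    rw [← Matrix.isUnit_iff_isUnit_det]; exact hXn.isUnit_one_sub
  obtain ⟨u, hu⟩ : ∃ u, u = (1 + X) * (1 - X)⁻¹ := ⟨_, rfl⟩
  have key : (1 + X)ᵀ * G * (1 + X) = (1 - X)ᵀ * G * (1 - X) := by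
    simp only [Matrix.transpose_add, Matrix.transpose_sub, Matrix.transpose_one, Matrix.add_mul, Matrix.sub_mul,
      Matrix.mul_add, Matrix.mul_sub, Matrix.one_mul, Matrix.mul_one, hskew, Matrix.neg_mul]
    abel
  have hiso : uᵀ * G * u = G := by
    calc uᵀ * G * u = (1 - X)⁻¹ᵀ * ((1 + X)ᵀ * G * (1 + X)) * (1 - X)⁻¹ := by
          rw [hu, Matrix.transpose_mul]; simp only [Matrix.mul_assoc]
      _ = ((1 - X) * (1 - X)⁻¹)ᵀ * G * ((1 - X) * (1 - X)⁻¹) := by
          rw [key, Matrix.transpose_mul]; simp only [Matrix.mul_assoc]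
      _ = G := by rw [Matrix.mul_nonsing_inv _ hW, Matrix.transpose_one, Matrix.one_mul, Matrix.mul_one]
  have hu1 : u - 1 = X * ((2 : F) • (1 - X)⁻¹) := by
    have e : u - 1 = ((1 + X) - (1 - X)) * (1 - X)⁻¹ := by
      rw [hu, Matrix.sub_mul (1 + X) (1 - X), Matrix.mul_nonsing_inv _ hW]
    rw [e, Matrix.mul_smul, ← Matrix.smul_mul]
    congr 1
    rw [two_smul]; abel
  have hc : Commute X ((2 : F) • (1 - X)⁻¹) := by
    refine Commute.smul_right ?_ _
    calc X * (1 - X)⁻¹ = (1 - X)⁻¹ * ((1 - X) * X) * (1 - X)⁻¹ := by rw [Matrix.nonsing_inv_mul_cancel_left _ _ hW]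
      _ = (1 - X)⁻¹ * (X * (1 - X)) * (1 - X)⁻¹ := by
          simp only [Matrix.sub_mul, Matrix.mul_sub, Matrix.one_mul, Matrix.mul_one]
      _ = (1 - X)⁻¹ * X := by
          rw [Matrix.mul_assoc, Matrix.mul_assoc X, Matrix.mul_nonsing_inv _ hW, Matrix.mul_one]
  have hnil : IsNilpotent (u - 1) := hu1 ▸ hc.isNilpotent_mul_right hXn
  refine ⟨Fin n, inferInstance, inferInstance, G, u, ?_, fun x => ?_, hnil, sizes_regular hpos (Fintype.card_fin n) hnil ?_⟩
  · rw [hGs, ← two_smul F G, Matrix.det_smul]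
    exact ((Ne.isUnit h2).pow _).mul (Matrix.isUnit_det_of_left_inverse hGG)
  · rw [Matrix.mulVec_mulVec, ← Matrix.vecMul_transpose, ← Matrix.dotProduct_mulVec, Matrix.mulVec_mulVec,
      ← Matrix.mul_assoc, hiso]
  · rw [hu1, Matrix.rank_mul_eq_left_of_isUnit_det, hX, CfsgLib.GLOrders.rank_shiftMat hpos]
    rw [Matrix.det_smul]
    exact ((Ne.isUnit h2).pow _).mul (Matrix.isUnit_nonsing_inv_det _ hW)

end CfsgLib.NilType
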